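/-
Transfer through the sign of a coset action: a `2`-element acting freely on the cosets of `T` is an
odd permutation when its order is the `2`-part of the index.
-/
import Cfsg.Agent.EqLemmas
import Cfsg.Agent.Lib.Transfer.Residual

set_option autoImplicit false

namespace Cfsg.Agent.SignTransfer

variable {G : Type*} [Group G] [Finite G]

open Equiv in
/-- A permutation all of whose cycles have length `2 ^ m`, an odd number of them, is odd. -/
theorem sign_eq_neg_one {X : Type*} [Fintype X] [DecidableEq X] (σ : Perm X) {m : ℕ}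
    (hm : 1 ≤ m) (hσ : σ ^ 2 ^ m = 1) (hfree : ∀ (n : ℕ) (x : X), (σ ^ n) x = x → 2 ^ m ∣ n)
    (hcard : ¬ 2 ^ (m + 1) ∣ Fintype.card X) : Perm.sign σ = -1 := by
  have hall : ∀ n ∈ σ.cycleType, n = 2 ^ m := by
    intro n hn
    refine Nat.dvd_antisymm ((Perm.dvd_of_mem_cycleType hn).trans
      (orderOf_dvd_iff_pow_eq_one.mpr hσ)) ?_
    rw [Perm.cycleType_def, Multiset.mem_map] at hn
    obtain ⟨τ, hτ, rfl⟩ := hn
    obtain ⟨hcyc, heq⟩ := Perm.mem_cycleFactorsFinset_iff.mp (Finset.mem_def.mpr hτ)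
    obtain ⟨x, hx⟩ := hcyc.nonempty_support
    have key : ∀ k : ℕ, (σ ^ k) x = (τ ^ k) x := by
      intro k
      induction k with
      | zero => rfl
      | succ k ih =>
        rw [pow_succ', pow_succ', Perm.mul_apply, Perm.mul_apply, ih,
          heq _ (Perm.pow_apply_mem_support.mpr hx)]
    refine hfree _ x ?_
    rw [key]
    show (τ ^ τ.support.card) x = x
    rw [← hcyc.orderOf, pow_orderOf_eq_one, Perm.one_apply]
  have hsupp : σ.support = Finset.univ := by
    ext x
    simp only [Perm.mem_support, Finset.mem_univ, iff_true]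
    intro h
    have := Nat.le_of_dvd one_pos (hfree 1 x (by rwa [pow_one]))
    have h2 : 2 ≤ 2 ^ m := Nat.le_self_pow (by omega) 2
    omega
  have hsum : σ.cycleType.card * 2 ^ m = Fintype.card X := by
    rw [← Finset.card_univ, ← hsupp, ← Perm.sum_cycleType,
      Multiset.eq_replicate_card.mpr hall, Multiset.sum_replicate, Multiset.card_replicate,
      smul_eq_mul]
  rw [Perm.sign_of_cycleType]
  refine Odd.neg_one_pow ?_
  rw [Perm.sum_cycleType, hsupp, Finset.card_univ, ← hsum]
  refine Even.add_odd ((Even.pow_of_ne_zero even_two (by omega)).mul_left _) ?_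
  rw [← Nat.not_even_iff_odd, even_iff_two_dvd]
  intro h
  exact hcard (by rw [← hsum, pow_succ']; exact mul_dvd_mul h dvd_rfl)

/-- If `a` acts freely on the cosets of `T` and its order is the `2`-part of the index, there is a
homomorphism onto `ℤˣ` with `a ↦ -1`; it is the sign of the coset action. -/
theorem exists_hom (T : Subgroup G) :
    ∃ ε : G →* ℤˣ, ∀ (a : G) (m : ℕ), 1 ≤ m → orderOf a = 2 ^ m → ¬ 2 ^ (m + 1) ∣ T.index →
      (∀ (g : G) (n : ℕ), g⁻¹ * a ^ n * g ∈ T → 2 ^ m ∣ n) → ε a = -1 := by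
  classical
  haveI := Fintype.ofFinite (G ⧸ T)
  refine ⟨Equiv.Perm.sign.comp (MulAction.toPermHom G (G ⧸ T)), fun a m hm ha hidx hfree => ?_⟩
  rw [MonoidHom.comp_apply]
  refine sign_eq_neg_one _ hm (by rw [← map_pow, ← ha, pow_orderOf_eq_one, map_one])
    (fun n x hx => ?_) (by rwa [← Nat.card_eq_fintype_card, ← Subgroup.index_eq_card])
  rw [← map_pow] at hx
  induction x using QuotientGroup.induction_on with
  | _ g =>
    change (((a ^ n * g : G)) : G ⧸ T) = (g : G ⧸ T) at hx
    refine hfree g n ?_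
    have := inv_mem (QuotientGroup.eq.mp hx)
    rwa [mul_inv_rev, inv_inv, ← mul_assoc] at this

/-- Homomorphisms to `ℤˣ` kill subgroups equal to their `2`-residual. -/
theorem le_ker {H : Subgroup G} (f : H →* ℤˣ) {R : Subgroup G} (hRH : R ≤ H)
    (hR : Cfsg.pResidual 2 ↥R = ⊤) : R ≤ f.ker.map H.subtype := by
  intro r hr
  refine ⟨⟨r, hRH hr⟩, ?_, rfl⟩
  have hA : IsPGroup 2 ℤˣ := fun u => ⟨1, by rw [pow_one]; exact Int.units_sq u⟩
  have := Transfer.pResidual_le_ker hA (f.comp (Subgroup.inclusion hRH))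
    (hR ▸ Subgroup.mem_top (⟨r, hr⟩ : R))
  exact MonoidHom.mem_ker.mpr (MonoidHom.mem_ker.mp this)

/-- If `a` has order `2 ^ m`, the `2`-part of `|H : T|`, and no nontrivial power of `a` is conjugate
into `T`, then every `R` with `T ≤ R ≤ H` and `O²(R) = R` has odd index over `T`. -/
theorem not_two_dvd_relIndex (T R : Subgroup G) (hTR : T ≤ R) (hR : Cfsg.pResidual 2 ↥R = ⊤) :
    ∀ (m : ℕ) (H : Subgroup G) (a : G), R ≤ H → a ∈ H → orderOf a = 2 ^ m →
      ¬ 2 ^ (m + 1) ∣ T.relIndex H →
      (∀ (g : G) (n : ℕ), g⁻¹ * a ^ n * g ∈ T → 2 ^ m ∣ n) → ¬ 2 ∣ T.relIndex R := by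
  intro m
  induction m with
  | zero =>
    intro H a hRH _ _ hidx _ h
    exact hidx (by
      rw [zero_add, pow_one, ← Subgroup.relIndex_mul_relIndex T R H hTR hRH]
      exact h.mul_right _)
  | succ m ih =>
    intro H a hRH haH ha hidx hfree
    obtain ⟨ε, hε⟩ := exists_hom (G := H) (T.subgroupOf H)
    have h1 : ε ⟨a, haH⟩ = -1 := hε ⟨a, haH⟩ (m + 1) (by omega)
      (by rw [Subgroup.orderOf_mk, ha]) hidx fun g n h => hfree g n (by
        simpa [Subgroup.mem_subgroupOf] using h)
    set H' := ε.ker.map H.subtype with hH'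
    have hRH' : R ≤ H' := le_ker ε hRH hR
    have hi : H'.relIndex H = 2 := by
      rw [hH', Subgroup.relIndex, Subgroup.subgroupOf,
        Subgroup.comap_map_eq_self_of_injective H.subtype_injective, Subgroup.index_ker,
        MonoidHom.range_eq_top.mpr, Subgroup.card_top, Nat.card_eq_fintype_card,
        Fintype.card_units_int]
      intro u
      rcases Int.units_eq_one_or u with rfl | rfl
      · exact ⟨1, map_one _⟩
      · exact ⟨_, h1⟩
    refine ih H' (a ^ 2) hRH' ⟨⟨a, haH⟩ ^ 2, ?_, by simp⟩ ?_ ?_ ?_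
    · rw [SetLike.mem_coe, MonoidHom.mem_ker, map_pow, h1]; norm_num
    · rw [orderOf_pow' a two_ne_zero, ha, Nat.gcd_eq_right (dvd_pow_self 2 (by omega)), pow_succ,
        Nat.mul_div_cancel _ two_pos]
    · intro h
      refine hidx ?_
      rw [← Subgroup.relIndex_mul_relIndex T H' H (hTR.trans hRH') (Subgroup.map_subtype_le _),
        hi, pow_succ]
      exact mul_dvd_mul h dvd_rfl
    · intro g n h
      have := hfree g (2 * n) (by rwa [pow_mul])
      rw [pow_succ'] at this
      exact Nat.dvd_of_mul_dvd_mul_left two_pos this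

end Cfsg.Agent.SignTransfer
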